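import Mathlib

/-!
# Lifting left inverses modulo nilpotent ideals (for modules with projective reductions)
-/

universe u v w

namespace Groth.Agent.Lib27.TopMod

variable {A : Type u} [CommRing A]

/-- Lifting along a surjection of modules killed by `J`, from a module whose reduction mod `J` is
projective over `A ⧸ J`. All maps are `A`-linear. -/
lemma exists_lift_of_projective_quotient (J : Ideal A) {N : Type v} {Y : Type w} {Z : Type*}
    [AddCommGroup N] [Module A N] [AddCommGroup Y] [Module A Y] [AddCommGroup Z] [Module A Z]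
    [Module.Projective (A ⧸ J) (N ⧸ (J • ⊤ : Submodule A N))]
    (hY : Module.IsTorsionBySet A Y J) (f : Y →ₗ[A] Z) (hf : Function.Surjective f)
    (g : N →ₗ[A] Z) : ∃ h : N →ₗ[A] Y, f ∘ₗ h = g := by
  have hZ : Module.IsTorsionBySet A Z J := by
    intro z a
    obtain ⟨y, rfl⟩ := hf z
    rw [← map_smul, hY, map_zero]
  letI := hY.module
  letI := hZ.module
  let f' : Y →ₗ[A ⧸ J] Z :=
    { toFun := f
      map_add' := f.map_add
      map_smul' := by
        intro c y
        obtain ⟨a, rfl⟩ := Ideal.Quotient.mk_surjective c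
        change f (a • y) = a • f y
        exact f.map_smul a y }
  have hle : (J • ⊤ : Submodule A N) ≤ LinearMap.ker g := by
    rw [Submodule.smul_le]
    intro a ha n _
    rw [LinearMap.mem_ker, map_smul]
    exact @hZ (g n) ⟨a, ha⟩
  let g₀ : (N ⧸ (J • ⊤ : Submodule A N)) →ₗ[A] Z := (J • ⊤ : Submodule A N).liftQ g hle
  let g' : (N ⧸ (J • ⊤ : Submodule A N)) →ₗ[A ⧸ J] Z :=
    { toFun := g₀
      map_add' := g₀.map_add
      map_smul' := by
        intro c x
        obtain ⟨a, rfl⟩ := Ideal.Quotient.mk_surjective c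
        obtain ⟨n, rfl⟩ := Submodule.Quotient.mk_surjective _ x
        change g₀ (Submodule.Quotient.mk (a • n)) = a • g₀ (Submodule.Quotient.mk n)
        rw [Submodule.Quotient.mk_smul, map_smul] }
  obtain ⟨h', hh'⟩ := Module.projective_lifting_property f' g' hf
  refine ⟨{ toFun := fun n => h' (Submodule.Quotient.mk n)
            map_add' := by intro x y; rw [Submodule.Quotient.mk_add, map_add]
            map_smul' := ?_ }, ?_⟩
  · intro a n
    have h1 : (Submodule.Quotient.mk (a • n) : N ⧸ (J • ⊤ : Submodule A N)) =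
        Ideal.Quotient.mk J a • Submodule.Quotient.mk n := rfl
    rw [h1, map_smul]
    rfl
  · ext n
    have := LinearMap.congr_fun hh' (Submodule.Quotient.mk n)
    exact this

/-- The step: lifting a left inverse modulo `J` to a left inverse modulo `J'`, if `J ^ n ≤ J' ≤ J`. -/
theorem exists_leftInverse_step {M : Type v} {N : Type w} [AddCommGroup M] [Module A M]
    [AddCommGroup N] [Module A N] (u : M →ₗ[A] N) (J' J : Ideal A) (hJ'J : J' ≤ J) (n : ℕ)
    (hn : J ^ n ≤ J') [Module.Projective (A ⧸ J') (N ⧸ (J' • ⊤ : Submodule A N))]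
    (wJ : N →ₗ[A] M ⧸ (J • ⊤ : Submodule A M))
    (hw : ∀ x : M, wJ (u x) = Submodule.Quotient.mk x) :
    ∃ w' : N →ₗ[A] M ⧸ (J' • ⊤ : Submodule A M),
      (∀ x : M, w' (u x) = Submodule.Quotient.mk x) ∧
      (Submodule.factor (Submodule.smul_mono_left hJ'J)) ∘ₗ w' = wJ := by
  set Y := M ⧸ (J' • ⊤ : Submodule A M) with hYdef
  have hY : Module.IsTorsionBySet A Y J' := Module.isTorsionBySet_quotient_ideal_smul M J'
  set q : Y →ₗ[A] M ⧸ (J • ⊤ : Submodule A M) :=
    Submodule.factor (Submodule.smul_mono_left hJ'J) with hq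
  have hqs : Function.Surjective q := by
    intro z
    obtain ⟨m, rfl⟩ := Submodule.Quotient.mk_surjective _ z
    exact ⟨Submodule.Quotient.mk m, rfl⟩
  have hqmk : ∀ m : M, q (Submodule.Quotient.mk m) = Submodule.Quotient.mk m := fun m => rfl
  obtain ⟨wt, hwt⟩ := exists_lift_of_projective_quotient J' hY q hqs wJ
  have hle : (J' • ⊤ : Submodule A M) ≤ LinearMap.ker (wt ∘ₗ u) := by
    rw [Submodule.smul_le]
    intro a ha m _
    rw [LinearMap.mem_ker, map_smul]
    exact @hY _ ⟨a, ha⟩
  let e : Module.End A Y := (J' • ⊤ : Submodule A M).liftQ (wt ∘ₗ u) hle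
  have he : ∀ m : M, e (Submodule.Quotient.mk m) = wt (u m) := fun m => rfl
  have hqe : q ∘ₗ e = q := by
    apply LinearMap.ext
    intro y
    obtain ⟨m, rfl⟩ := Submodule.Quotient.mk_surjective _ y
    rw [LinearMap.comp_apply, he]
    have h1 : q (wt (u m)) = wJ (u m) := LinearMap.congr_fun hwt (u m)
    rw [h1, hw, hqmk]
  set ε : Module.End A Y := e - 1 with hε
  have hqε : q ∘ₗ ε = 0 := by
    rw [hε, LinearMap.comp_sub, hqe]
    change q - q ∘ₗ LinearMap.id = 0
    rw [LinearMap.comp_id, sub_self]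
  have hkerq : LinearMap.ker q ≤ (J • ⊤ : Submodule A Y) := by
    intro y hy
    obtain ⟨m, rfl⟩ := Submodule.Quotient.mk_surjective _ y
    rw [LinearMap.mem_ker, hqmk, Submodule.Quotient.mk_eq_zero] at hy
    have h1 : (Submodule.Quotient.mk m : Y) ∈
        Submodule.map (J' • ⊤ : Submodule A M).mkQ (J • ⊤ : Submodule A M) := ⟨m, hy, rfl⟩
    rw [Submodule.map_smul''] at h1
    exact Submodule.smul_mono le_rfl le_top h1
  have hrange : ∀ k : ℕ, LinearMap.range (ε ^ k) ≤ (J ^ k • ⊤ : Submodule A Y) := by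
    intro k
    induction k with
    | zero => simp
    | succ k ih =>
      rw [pow_succ', Module.End.mul_eq_comp, LinearMap.range_comp]
      calc Submodule.map ε (LinearMap.range (ε ^ k))
          ≤ Submodule.map ε (J ^ k • ⊤ : Submodule A Y) := Submodule.map_mono ih
        _ = J ^ k • Submodule.map ε ⊤ := Submodule.map_smul'' _ _ _
        _ ≤ J ^ k • (J • ⊤ : Submodule A Y) := by
            apply Submodule.smul_mono le_rfl
            rw [Submodule.map_top]
            intro y hy
            obtain ⟨x, rfl⟩ := hy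
            apply hkerq
            rw [LinearMap.mem_ker, ← LinearMap.comp_apply, hqε, LinearMap.zero_apply]
        _ = (J ^ (k + 1) • ⊤ : Submodule A Y) := by
            rw [← Submodule.mul_smul, ← pow_succ]
  have hJ'Y : (J' • ⊤ : Submodule A Y) = ⊥ := by
    rw [eq_bot_iff, Submodule.smul_le]
    intro a ha y _
    rw [Submodule.mem_bot]
    exact @hY y ⟨a, ha⟩
  have hnil : IsNilpotent ε := by
    refine ⟨n, ?_⟩
    rw [← LinearMap.range_eq_bot, eq_bot_iff]
    calc LinearMap.range (ε ^ n) ≤ (J ^ n • ⊤ : Submodule A Y) := hrange n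
      _ ≤ (J' • ⊤ : Submodule A Y) := Submodule.smul_mono_left hn
      _ = ⊥ := hJ'Y
  have hunit : IsUnit e := by
    have : e = 1 + ε := by rw [hε]; abel
    rw [this]
    exact hnil.isUnit_one_add
  obtain ⟨eu, heu⟩ := hunit
  let ρ : Module.End A Y := ((eu⁻¹ : (Module.End A Y)ˣ) : Module.End A Y)
  have hρe : ρ * e = 1 := by rw [← heu]; exact eu.inv_mul
  have heρ : e * ρ = 1 := by rw [← heu]; exact eu.mul_inv
  have hqρ : q ∘ₗ ρ = q := by
    calc q ∘ₗ ρ = (q ∘ₗ e) ∘ₗ ρ := by rw [hqe]
      _ = q ∘ₗ (e * ρ) := by rw [LinearMap.comp_assoc]; rfl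
      _ = q := by rw [heρ]; rfl
  refine ⟨ρ ∘ₗ wt, ?_, ?_⟩
  · intro x
    rw [LinearMap.comp_apply, ← he]
    change (ρ * e) _ = _
    rw [hρe]
    rfl
  · rw [← LinearMap.comp_assoc, hqρ, hwt]

end Groth.Agent.Lib27.TopMod
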