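import Mathlib
import Groth.Prelude.Def_TopMod
import Groth.Prelude.Def_LinTop

/-!
# Basic facts on deduced topologies
-/

universe u v w

namespace Groth.Agent.Lib27.TopMod

/-- an additive map to a discrete group whose kernel contains an open subgroup is continuous -/
lemma continuous_of_open_le_ker {M E : Type*} [AddCommGroup M] [TopologicalSpace M]
    [IsTopologicalAddGroup M] [AddCommGroup E] [TopologicalSpace E] [DiscreteTopology E]
    (f : M →+ E) (U : Set M) (hU : IsOpen U) (h0 : (0 : M) ∈ U) (hle : ∀ x ∈ U, f x = 0) :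
    Continuous f := by
  rw [continuous_discrete_rng]
  intro b
  rw [isOpen_iff_mem_nhds]
  intro x hx
  have hc : Continuous fun y : M => y - x := continuous_id.sub continuous_const
  have h1 : (fun y : M => y - x) ⁻¹' U ∈ nhds x := by
    apply (hU.preimage hc).mem_nhds
    simpa using h0
  filter_upwards [h1] with y hy
  have h2 : f (y - x) = 0 := hle _ hy
  rw [map_sub, sub_eq_zero] at h2
  rw [Set.mem_preimage, Set.mem_singleton_iff] at hx ⊢
  rw [h2, hx]

variable {A : Type u} [CommRing A] [TopologicalSpace A]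

lemma isOpen_smul_top {M : Type v} [AddCommGroup M] [Module A M] [TopologicalSpace M]
    (hM : _root_.TopMod.IsDeduced A M) (J : Ideal A) (hJ : IsOpen (J : Set A)) :
    IsOpen ((J • ⊤ : Submodule A M) : Set M) := by
  haveI := hM.1
  have h1 : ((J • ⊤ : Submodule A M) : Set M) ∈ nhds (0 : M) :=
    hM.2.mem_iff.2 ⟨J, hJ, subset_rfl⟩
  exact AddSubgroup.isOpen_of_mem_nhds (J • ⊤ : Submodule A M).toAddSubgroup h1

lemma exists_open_ideal_le_ker {M : Type v} {E : Type*} [AddCommGroup M] [Module A M]
    [TopologicalSpace M] [AddCommGroup E] [Module A E] [TopologicalSpace E] [DiscreteTopology E]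
    (hM : _root_.TopMod.IsDeduced A M) (v : M →L[A] E) :
    ∃ J : Ideal A, IsOpen (J : Set A) ∧ (J • ⊤ : Submodule A M) ≤ LinearMap.ker v.toLinearMap := by
  have h1 : (v ⁻¹' {0} : Set M) ∈ nhds (0 : M) := by
    apply v.continuous.continuousAt
    rw [map_zero]
    exact (isOpen_discrete _).mem_nhds rfl
  obtain ⟨J, hJ, hsub⟩ := hM.2.mem_iff.1 h1
  refine ⟨J, hJ, ?_⟩
  intro x hx
  exact hsub hx

end Groth.Agent.Lib27.TopMod
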