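import Mathlib
import Groth.Agent.Lib27.TopMod.Deduced

/-!
# Complete Hausdorff modules with a deduced topology are limits of their discrete quotients
-/

universe u v w

open Filter Topology

namespace Groth.Agent.Lib27.TopMod

variable {A : Type u} [CommRing A] [TopologicalSpace A]

theorem existsUnique_of_compatible {M : Type v} [AddCommGroup M] [Module A M] [UniformSpace M]
    [IsUniformAddGroup M] [CompleteSpace M] [T2Space M]
    (hM : _root_.TopMod.IsDeduced A M) (J : ℕ → Ideal A) (hJopen : ∀ k, IsOpen (J k : Set A))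
    (hJanti : Antitone J) (hJbasis : ∀ I : Ideal A, IsOpen (I : Set A) → ∃ k, J k ≤ I)
    (ξ : ∀ k, M ⧸ (J k • ⊤ : Submodule A M))
    (hξ : ∀ k, Submodule.factor (Submodule.smul_mono_left (hJanti (Nat.le_succ k))) (ξ (k + 1))
      = ξ k) :
    ∃! x : M, ∀ k, Submodule.Quotient.mk x = ξ k := by
  classical
  -- neighbourhood basis
  have hbasis : ∀ U ∈ 𝓝 (0 : M), ∃ k, ((J k • ⊤ : Submodule A M) : Set M) ⊆ U := by
    intro U hU
    obtain ⟨I, hI, hIU⟩ := hM.2.mem_iff.1 hU
    obtain ⟨k, hk⟩ := hJbasis I hI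
    exact ⟨k, fun x hx => hIU (Submodule.smul_mono_left hk hx)⟩
  have hsub : ∀ {k l : ℕ}, k ≤ l → (J l • ⊤ : Submodule A M) ≤ J k • ⊤ :=
    fun h => Submodule.smul_mono_left (hJanti h)
  -- lifts
  have hlift : ∀ k, ∃ x : M, Submodule.Quotient.mk x = ξ k :=
    fun k => Submodule.Quotient.mk_surjective _ (ξ k)
  choose x hx using hlift
  have hstep : ∀ k, x (k + 1) - x k ∈ (J k • ⊤ : Submodule A M) := by
    intro k
    rw [← Submodule.Quotient.eq]
    have h1 := hξ k
    rw [← hx (k + 1), ← hx k] at h1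
    exact h1
  have hdiff : ∀ k l, k ≤ l → x l - x k ∈ (J k • ⊤ : Submodule A M) := by
    intro k l hkl
    induction l, hkl using Nat.le_induction with
    | base => rw [sub_self]; exact zero_mem _
    | succ l hkl ih =>
      have h1 : x (l + 1) - x k = (x (l + 1) - x l) + (x l - x k) := by abel
      rw [h1]
      exact add_mem (hsub hkl (hstep l)) ih
  -- Cauchy
  have hcauchy : CauchySeq x := by
    rw [cauchySeq_iff_tendsto, uniformity_eq_comap_nhds_zero M, tendsto_comap_iff]
    intro U hU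
    obtain ⟨k, hk⟩ := hbasis U hU
    rw [Filter.mem_map]
    filter_upwards [eventually_ge_atTop ((k, k) : ℕ × ℕ)] with p hp
    apply hk
    have hp1 : k ≤ p.1 := hp.1
    have hp2 : k ≤ p.2 := hp.2
    have h1 : x p.2 - x p.1 = (x p.2 - x k) - (x p.1 - x k) := by abel
    change x p.2 - x p.1 ∈ (J k • ⊤ : Submodule A M)
    rw [h1]
    exact sub_mem (hdiff k _ hp2) (hdiff k _ hp1)
  obtain ⟨y, hy⟩ := cauchySeq_tendsto_of_complete hcauchy
  haveI := hM.1
  have hy' : ∀ k, y - x k ∈ (J k • ⊤ : Submodule A M) := by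
    intro k
    have hopen : IsOpen ((J k • ⊤ : Submodule A M) : Set M) := isOpen_smul_top hM (J k) (hJopen k)
    have hclosed : IsClosed ((J k • ⊤ : Submodule A M) : Set M) :=
      AddSubgroup.isClosed_of_isOpen (J k • ⊤ : Submodule A M).toAddSubgroup hopen
    have ht : Tendsto (fun l => x l - x k) atTop (𝓝 (y - x k)) := hy.sub_const (x k)
    apply hclosed.mem_of_tendsto ht
    filter_upwards [eventually_ge_atTop k] with l hl
    exact hdiff k l hl
  refine ⟨y, ?_, ?_⟩
  · intro k
    rw [← hx k, Submodule.Quotient.eq]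
    exact hy' k
  · intro y' hy''
    by_contra hne
    have hz : y' - y ≠ 0 := sub_ne_zero.2 hne
    have hU : ({y' - y}ᶜ : Set M) ∈ 𝓝 (0 : M) := compl_singleton_mem_nhds (Ne.symm hz)
    obtain ⟨k, hk⟩ := hbasis _ hU
    have h1 : y' - y ∈ (J k • ⊤ : Submodule A M) := by
      have h2 : y' - x k ∈ (J k • ⊤ : Submodule A M) := by
        rw [← Submodule.Quotient.eq, hy'' k, ← hx k]
      have h3 : y' - y = (y' - x k) - (y - x k) := by abel
      rw [h3]
      exact sub_mem h2 (hy' k)
    exact hk h1 rfl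

end Groth.Agent.Lib27.TopMod
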